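import Groth.Agent.Lib.PowPert6.Val
import Groth.Agent.Lib.RelNoether10.Basic

/-!
# Fibre dimension bounds are stable under replacing `a` by `a ^ n + b`
-/

set_option autoImplicit false
set_option linter.style.haveILetI false
set_option maxHeartbeats 1000000
set_option maxSynthPendingDepth 3
set_option synthInstance.maxHeartbeats 100000

open Polynomial TensorProduct
open scoped IntermediateField.algebraAdjoinAdjoin

universe u

namespace GrothLib.PowPert6

open GrothLib.RelNoether10 in
/-- Clearing the denominators of the coefficients. -/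
theorem exists_clear {A : Type u} [CommRing A] (P : Ideal A) [P.IsPrime] {σ : Type} {N : ℕ}
    (f : Fin N → MvPolynomial σ P.ResidueField) :
    ∃ (r : A) (g : Fin N → MvPolynomial σ A), r ∉ P ∧
      ∀ j, MvPolynomial.C (algebraMap A P.ResidueField r) * f j = MvPolynomial.map (algebraMap A P.ResidueField) (g j) := by
  classical
  have h1 : ∀ j, ∃ (r : A) (g : MvPolynomial σ A), r ∉ P ∧
      MvPolynomial.C (algebraMap A P.ResidueField r) * f j = MvPolynomial.map (algebraMap A P.ResidueField) g := by
    intro j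
    obtain ⟨c, g, hc, hg⟩ := exists_unit_mul_mem_range P (f j)
    obtain ⟨x, y, hy, e⟩ := IsFractionRing.div_surjective (A := A ⧸ P) c
    obtain ⟨x, rfl⟩ := Ideal.Quotient.mk_surjective x
    obtain ⟨y, rfl⟩ := Ideal.Quotient.mk_surjective y
    have hy0' : algebraMap (A ⧸ P) P.ResidueField (Ideal.Quotient.mk P y) ≠ 0 :=
      IsFractionRing.to_map_ne_zero_of_mem_nonZeroDivisors hy
    have hy0 : algebraMap A P.ResidueField y ≠ 0 := hy0'
    refine ⟨x, MvPolynomial.C y * g, fun h => hc ?_, ?_⟩
    · rw [← e, show algebraMap (A ⧸ P) P.ResidueField (Ideal.Quotient.mk P x) = algebraMap A P.ResidueField x from rfl,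
        Ideal.algebraMap_residueField_eq_zero.2 h, zero_div]
    · rw [map_mul, MvPolynomial.map_C, ← hg, ← mul_assoc, ← map_mul]
      congr 2
      rw [← e]
      show _ = algebraMap A P.ResidueField y * (algebraMap A P.ResidueField x / algebraMap A P.ResidueField y)
      rw [mul_div_cancel₀ _ hy0]
  choose r g hr hg using h1
  refine ⟨∏ i, r i, fun j => MvPolynomial.C (∏ i ∈ Finset.univ.erase j, r i) * g j, fun h => ?_, fun j => ?_⟩
  · obtain ⟨i, -, hi⟩ := Ideal.IsPrime.prod_mem_iff.1 h
    exact hr i hi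
  · rw [map_mul (MvPolynomial.map _), MvPolynomial.map_C, ← hg, ← mul_assoc, ← map_mul MvPolynomial.C, ← map_mul,
      Finset.prod_erase_mul _ _ (Finset.mem_univ j)]

open GrothLib.RelNoether10 in
/-- Uniform relations for an element of an algebra with fibrewise integral normalisation. -/
theorem exists_uniform_relations {R S : Type u} [CommRing R] [CommRing S] [Algebra R[X] S] {d : ℕ}
    (ψ : MvPolynomial (Fin d) R[X] →ₐ[R[X]] S) (hψ : ∀ P, (fib ψ P).toRingHom.IsIntegral) (x : S) :
    ∃ M : ℕ, ∀ q : PrimeSpectrum S, ∃ (N : ℕ) (c : R[X]) (g : Fin N → MvPolynomial (Fin d) R[X]),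
      algebraMap R[X] S c ∉ q.asIdeal ∧ (∀ j v, ((g j).coeff v).natDegree ≤ M) ∧
      algebraMap R[X] S c * x ^ N + ∑ j, ψ (g j) * x ^ (j : ℕ) ∈ q.asIdeal := by
  classical
  have hloc : ∀ q : PrimeSpectrum S, ∃ (N : ℕ) (c : R[X]) (g : Fin N → MvPolynomial (Fin d) R[X]),
      algebraMap R[X] S c ∉ q.asIdeal ∧ algebraMap R[X] S c * x ^ N + ∑ j, ψ (g j) * x ^ (j : ℕ) ∈ q.asIdeal := by
    intro q
    let P : PrimeSpectrum R[X] := PrimeSpectrum.comap (algebraMap R[X] S) q
    letI : Algebra P.asIdeal.ResidueField q.asIdeal.ResidueField :=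
      (Ideal.ResidueField.map P.asIdeal q.asIdeal (algebraMap R[X] S) rfl).toAlgebra
    haveI : IsScalarTower R[X] P.asIdeal.ResidueField q.asIdeal.ResidueField :=
      IsScalarTower.of_algebraMap_eq fun r => by
        show _ = Ideal.ResidueField.map P.asIdeal q.asIdeal (algebraMap R[X] S) rfl (algebraMap R[X] _ r)
        exact ((Ideal.ResidueField.map_algebraMap _ _ _ _ r).trans (IsScalarTower.algebraMap_apply _ _ _ r).symm).symm
    let ev : P.asIdeal.Fiber S →ₐ[P.asIdeal.ResidueField] q.asIdeal.ResidueField :=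
      Algebra.TensorProduct.lift (Algebra.ofId _ _) (IsScalarTower.toAlgHom R[X] S _) fun _ _ => Commute.all _ _
    have hev : ∀ s : S, ev (1 ⊗ₜ s) = algebraMap S q.asIdeal.ResidueField s := fun s => by
      show Algebra.TensorProduct.lift _ _ _ (1 ⊗ₜ s) = _
      rw [Algebra.TensorProduct.lift_tmul, map_one, one_mul]
      rfl
    obtain ⟨q0, hq0, hq0x⟩ := hψ P ((1 : P.asIdeal.ResidueField) ⊗ₜ x)
    let N := q0.natDegree
    obtain ⟨r, g, hr, hg⟩ := exists_clear P.asIdeal fun j : Fin N => q0.coeff j
    refine ⟨N, r, g, fun h => hr h, ?_⟩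
    let ρ := algebraMap S q.asIdeal.ResidueField
    let θ : MvPolynomial (Fin d) P.asIdeal.ResidueField →+* q.asIdeal.ResidueField :=
      ev.toRingHom.comp (fib ψ P).toRingHom
    have hθg : ∀ j, θ (MvPolynomial.map (algebraMap R[X] P.asIdeal.ResidueField) (g j)) = ρ (ψ (g j)) := fun j => by
      show ev (fib ψ P _) = _
      rw [fib_map, hev]
    have hθC : θ (MvPolynomial.C (algebraMap R[X] P.asIdeal.ResidueField r)) = ρ (algebraMap R[X] S r) := by
      show ev (fib ψ P _) = _
      rw [← MvPolynomial.map_C, fib_map, hev, ← MvPolynomial.algebraMap_eq, AlgHom.commutes]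
    have h0 : q0.eval₂ θ (ρ x) = 0 := by
      rw [show ρ x = ev.toRingHom (1 ⊗ₜ x) from (hev x).symm, ← Polynomial.hom_eval₂, hq0x, map_zero]
    rw [← Ideal.algebraMap_residueField_eq_zero, map_add, map_mul, map_sum]
    simp only [map_mul, map_pow]
    show ρ (algebraMap R[X] S r) * ρ x ^ N + ∑ j, ρ (ψ (g j)) * ρ x ^ (j : ℕ) = 0
    rw [Polynomial.eval₂_eq_sum_range, Finset.sum_range_succ, hq0.coeff_natDegree, map_one, one_mul,
      ← Fin.sum_univ_eq_sum_range (fun i => θ (q0.coeff i) * ρ x ^ i)] at h0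
    have hj : ∀ j : Fin N, ρ (algebraMap R[X] S r) * θ (q0.coeff j) = ρ (ψ (g j)) := fun j => by
      rw [← hθC, ← map_mul, hg, hθg]
    have h1 := congrArg (fun z => ρ (algebraMap R[X] S r) * z) h0
    simp only [mul_zero, mul_add, Finset.mul_sum, ← mul_assoc] at h1
    rw [add_comm]
    refine Eq.trans ?_ h1
    congr 1
    exact Finset.sum_congr rfl fun j _ => by rw [← hj j]
  choose N c g hc hg using hloc
  let T := PrimeSpectrum S
  let el : T → S := fun q => algebraMap R[X] S (c q) * x ^ N q + ∑ j, ψ (g q j) * x ^ (j : ℕ)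
  let U : T → Set T := fun q => (PrimeSpectrum.basicOpen (algebraMap R[X] S (c q)) : Set T) ∩
    ((PrimeSpectrum.basicOpen (el q) : Set T))ᶜ
  have hopen : ∀ q, IsOpen (WithTopology.ofTopology ⁻¹' U q : Set (WithConstructibleTopology T)) := by
    intro q
    rw [WithConstructibleTopology.isOpen_iff]
    show @IsOpen T (constructibleTopology T) (U q)
    have hb : ∀ s : S, (PrimeSpectrum.basicOpen s : Set T) ∈ constructibleTopologySubbasis T := fun s =>
      Or.inl ⟨PrimeSpectrum.isOpen_basicOpen, PrimeSpectrum.isCompact_basicOpen _⟩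
    have hcl : ∀ s : S, ((PrimeSpectrum.basicOpen s : Set T))ᶜ ∈ constructibleTopologySubbasis T := fun s =>
      Or.inr ⟨PrimeSpectrum.isOpen_basicOpen.isClosed_compl, by
        rw [compl_compl]; exact PrimeSpectrum.isCompact_basicOpen s⟩
    letI : TopologicalSpace T := constructibleTopology T
    exact IsOpen.inter (TopologicalSpace.isOpen_generateFrom_of_mem (hb _))
      (TopologicalSpace.isOpen_generateFrom_of_mem (hcl _))
  obtain ⟨t, ht⟩ := isCompact_univ.elim_finite_subcover _ hopen fun q _ =>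
    Set.mem_iUnion.2 ⟨WithTopology.ofTopology q, hc _, fun h => h (hg _)⟩
  refine ⟨t.sup fun p => Finset.univ.sup fun j => (g p j).support.sup fun v => ((g p j).coeff v).natDegree,
    fun q => ?_⟩
  obtain ⟨p, hp, hq1, hq2⟩ := Set.mem_iUnion₂.1 (ht (Set.mem_univ (WithTopology.toTopology _ q)))
  refine ⟨N p, c p, g p, hq1, fun j v => ?_, not_not.1 hq2⟩
  by_cases hv : v ∈ (g p j).support
  · exact le_trans (le_trans (Finset.le_sup (f := fun v => ((g p j).coeff v).natDegree) hv)
      (Finset.le_sup (f := fun j => (g p j).support.sup fun v => ((g p j).coeff v).natDegree) (Finset.mem_univ j)))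
      (Finset.le_sup (f := fun p => Finset.univ.sup fun j => (g p j).support.sup fun v => ((g p j).coeff v).natDegree) hp)
  · rw [MvPolynomial.notMem_support_iff.1 hv, natDegree_zero]
    exact Nat.zero_le _

/-- The relations are incompatible with `a ^ n + b` being algebraic on a component of maximal dimension. -/
theorem false_of_bad {R S : Type u} [CommRing R] [CommRing S] [Algebra R S] (a b : S) {d m M D n : ℕ} (hn : D < n)
    (φ : MvPolynomial (Fin m) R →ₐ[R] S) (hφ : Function.Surjective φ) (y : Fin d → S)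
    (hD : ∀ (K : Type u) [Field K] (O : ValuationSubring K) (ρ : S →+* K) (a : K), 1 < O.valuation a →
      (∀ r, ρ (algebraMap R S r) ∈ O) → (∀ i, O.valuation (ρ (φ (MvPolynomial.X i))) ≤ O.valuation a ^ M) →
      O.valuation (ρ b) ≤ O.valuation a ^ D)
    (hM : ∀ (q : PrimeSpectrum S) (i : Fin m), ∃ (N : ℕ) (c : R[X]) (g : Fin N → MvPolynomial (Fin d) R[X]),
      aeval a c ∉ q.asIdeal ∧ (∀ j v, ((g j).coeff v).natDegree ≤ M) ∧
      aeval a c * φ (MvPolynomial.X i) ^ N +
        ∑ j, MvPolynomial.eval₂ (aeval (R := R) a).toRingHom y (g j) * φ (MvPolynomial.X i) ^ (j : ℕ) ∈ q.asIdeal)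
    (P : PrimeSpectrum R[X])
    (hP : letI := (aeval (R := R) (a ^ n + b)).toRingHom.toAlgebra
      ¬ ringKrullDim (P.asIdeal.Fiber S) ≤ d) : False := by
  classical
  letI := (aeval (R := R) (a ^ n + b)).toRingHom.toAlgebra
  haveI : IsScalarTower R R[X] S := IsScalarTower.of_algebraMap_eq fun r => ((aeval (R := R) (a ^ n + b)).commutes r).symm
  haveI : Algebra.FiniteType R S :=
    Algebra.FiniteType.of_surjective φ hφ
  haveI : Algebra.FiniteType R[X] S := Algebra.FiniteType.of_restrictScalars_finiteType R _ _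
  let κ := P.asIdeal.ResidueField
  let F := P.asIdeal.Fiber S
  haveI : Nontrivial F := by
    by_contra h
    rw [not_nontrivial_iff_subsingleton] at h
    exact hP (by rw [ringKrullDim_eq_bot_of_subsingleton]; exact bot_le)
  obtain ⟨s, z, hz, hzfin⟩ := exists_finite_inj_algHom_of_fg κ F
  have hs : d + 1 ≤ s := by
    letI := z.toRingHom.toAlgebra
    haveI : Module.Finite (MvPolynomial (Fin s) κ) F := hzfin
    haveI : Algebra.IsIntegral (MvPolynomial (Fin s) κ) F := Algebra.IsIntegral.of_finite _ _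
    have h := GrothLib.Dim.ringKrullDim_eq_of_isIntegral (R := MvPolynomial (Fin s) κ) (S := F) hz
    rw [h, MvPolynomial.ringKrullDim_of_isNoetherianRing, ringKrullDim_eq_zero_of_field, zero_add, Nat.card_fin,
      Nat.cast_le, not_le] at hP
    exact hP
  obtain ⟨Q, hQ, hQ0⟩ : ∃ Q : Ideal F, Q.IsPrime ∧ Q.comap z.toRingHom = ⊥ := by
    obtain ⟨Q, hQ, hQ0⟩ := Ideal.exists_minimalPrimes_comap_eq (I := (⊥ : Ideal F)) z.toRingHom ⊥ (by
      rw [← RingHom.ker_eq_comap_bot, (RingHom.injective_iff_ker_eq_bot z.toRingHom).1 hz]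
      exact ⟨⟨Ideal.isPrime_bot, le_rfl⟩, fun _ _ _ => bot_le⟩)
    exact ⟨Q, hQ.1.1, hQ0⟩
  let L := Q.ResidueField
  letI : Algebra κ L := ((algebraMap F L).comp (algebraMap κ F)).toAlgebra
  haveI : IsScalarTower κ F L := IsScalarTower.of_algebraMap_eq' rfl
  let π : F →ₐ[κ] L := IsScalarTower.toAlgHom κ F L
  let ρ : S →+* L := π.toRingHom.comp (Algebra.TensorProduct.includeRight : S →ₐ[R[X]] F).toRingHom
  let zL : Fin s → L := fun i => π (z (MvPolynomial.X i))
  have hzL : AlgebraicIndependent κ zL := by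
    show Function.Injective (MvPolynomial.aeval zL)
    rw [show MvPolynomial.aeval zL = π.comp z from MvPolynomial.algHom_ext fun i => by simp [zL], injective_iff_map_eq_zero]
    intro f hf
    have : f ∈ Q.comap z.toRingHom := Ideal.mem_comap.2 ((Ideal.algebraMap_residueField_eq_zero (I := Q) (x := z f)).1 hf)
    rwa [hQ0, Ideal.mem_bot] at this
  -- the constants
  let k : Subfield L := Subfield.closure (Set.range fun r : R => ρ (algebraMap R S r))
  let toK : R →+* k := ((ρ.comp (algebraMap R S)).codRestrict k fun r => Subfield.subset_closure ⟨r, rfl⟩)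
  let β : L := ρ (a ^ n + b)
  let η : R[X] →+* L := (algebraMap κ L).comp (algebraMap R[X] κ)
  have hη : ∀ f : R[X], η f = ρ (aeval (a ^ n + b) f) := fun f => by
    show algebraMap κ L (algebraMap R[X] κ f) = π ((Algebra.TensorProduct.includeRight : S →ₐ[R[X]] F) (algebraMap R[X] S f))
    rw [AlgHom.commutes, IsScalarTower.algebraMap_apply R[X] κ F, AlgHom.commutes]
  let K₁ : IntermediateField k L :=
    algebraicClosure (IntermediateField.adjoin k (Set.range fun o : Option (Fin d) => o.elim (ρ a) (fun j => ρ (y j)))) L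
      |>.restrictScalars k
  let E := IntermediateField.adjoin k (Set.range fun o : Option (Fin d) => o.elim (ρ a) (fun j => ρ (y j)))
  have hρk : ∀ r : R, ρ (algebraMap R S r) = algebraMap k L (toK r) := fun r => rfl
  have hgen : ∀ o : Option (Fin d), o.elim (ρ a) (fun j => ρ (y j)) ∈ E := fun o =>
    IntermediateField.subset_adjoin k _ ⟨o, rfl⟩
  have hEpoly : ∀ c : R[X], ρ (aeval a c) ∈ E := fun c => by
    induction c using Polynomial.induction_on' with
    | add p q hp hq => rw [map_add, map_add]; exact E.add_mem hp hq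
    | monomial e r => rw [aeval_monomial, map_mul, map_pow, hρk]; exact E.mul_mem (E.algebraMap_mem _) (pow_mem (show ρ a ∈ E from hgen none) e)
  have hEmv : ∀ f : MvPolynomial (Fin d) R[X], ρ (MvPolynomial.eval₂ (aeval (R := R) a).toRingHom y f) ∈ E := fun f => by
    induction f using MvPolynomial.induction_on with
    | C c => rw [MvPolynomial.eval₂_C]; exact hEpoly c
    | add p q hp hq => rw [MvPolynomial.eval₂_add, map_add]; exact E.add_mem hp hq
    | mul_X p j hp => rw [MvPolynomial.eval₂_mul, MvPolynomial.eval₂_X, map_mul]; exact E.mul_mem hp (hgen (some j))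
  have hker : (RingHom.ker ρ).IsPrime := RingHom.ker_isPrime ρ
  choose Nr cr gr hcr hgr hrel using fun i => hM ⟨RingHom.ker ρ, hker⟩ i
  have hrelL : ∀ i, ρ (aeval a (cr i)) * ρ (φ (MvPolynomial.X i)) ^ Nr i +
      ∑ j, ρ (MvPolynomial.eval₂ (aeval (R := R) a).toRingHom y (gr i j)) * ρ (φ (MvPolynomial.X i)) ^ (j : ℕ) = 0 :=
    fun i => by
      have := RingHom.mem_ker.1 (hrel i)
      simpa only [map_add, map_sum, map_mul, map_pow] using this
  have halgE : ∀ i, IsAlgebraic E (ρ (φ (MvPolynomial.X i))) := fun i => by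
    let pol : Polynomial E := Polynomial.C (⟨_, hEpoly (cr i)⟩ : E) * Polynomial.X ^ Nr i +
      ∑ j : Fin (Nr i), Polynomial.C (⟨_, hEmv (gr i j)⟩ : E) * Polynomial.X ^ (j : ℕ)
    refine ⟨pol, fun h0 => hcr i ?_, ?_⟩
    · have h1 := congrArg (fun p => Polynomial.coeff p (Nr i)) h0
      simp only [pol, Polynomial.coeff_add, Polynomial.finsetSum_coeff, Polynomial.coeff_C_mul_X_pow, if_true,
        Polynomial.coeff_zero] at h1
      rw [Finset.sum_eq_zero (fun j _ => if_neg (Nat.ne_of_gt j.2)), add_zero] at h1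
      exact RingHom.mem_ker.2 (congrArg Subtype.val h1)
    · simp only [pol, map_add, map_sum, map_mul, map_pow, Polynomial.aeval_C, Polynomial.aeval_X]
      exact hrelL i
  have hS : ∀ x : S, ρ x ∈ K₁ := fun x => by
    obtain ⟨f, rfl⟩ := hφ x
    induction f using MvPolynomial.induction_on with
    | C r => rw [← MvPolynomial.algebraMap_eq, AlgHom.commutes, hρk]; exact K₁.algebraMap_mem _
    | add p q hp hq => rw [map_add, map_add]; exact K₁.add_mem hp hq
    | mul_X p i hp => rw [map_mul, map_mul]; exact K₁.mul_mem hp (mem_algebraicClosure_iff.2 (halgE i))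
  have hκ : ∀ e : κ, algebraMap κ L e ∈ K₁ := fun e => by
    obtain ⟨u, v, -, rfl⟩ := IsFractionRing.div_surjective (A := R[X] ⧸ P.asIdeal) e
    obtain ⟨u, rfl⟩ := Ideal.Quotient.mk_surjective u
    obtain ⟨v, rfl⟩ := Ideal.Quotient.mk_surjective v
    rw [map_div₀]
    exact K₁.div_mem (show η u ∈ K₁ by rw [hη]; exact hS _) (show η v ∈ K₁ by rw [hη]; exact hS _)
  have hF : ∀ f : F, π f ∈ K₁ := fun f => by
    induction f using TensorProduct.induction_on with
    | zero => rw [map_zero]; exact K₁.zero_mem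
    | tmul e x =>
      have : (e ⊗ₜ[R[X]] x : F) = algebraMap κ F e * ((1 : κ) ⊗ₜ x) := by
        rw [Algebra.TensorProduct.algebraMap_apply, Algebra.TensorProduct.tmul_mul_tmul]; simp only [mul_one, one_mul]; congr 1
      rw [this, map_mul, AlgHom.commutes]
      exact K₁.mul_mem (hκ e) (hS x)
    | add p q hp hq => rw [map_add]; exact K₁.add_mem hp hq
  haveI hEalg : Algebra.IsAlgebraic E L := ⟨fun l => by
    obtain ⟨u, v, -, rfl⟩ := IsFractionRing.div_surjective (A := F ⧸ Q) l
    obtain ⟨u, rfl⟩ := Ideal.Quotient.mk_surjective u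
    obtain ⟨v, rfl⟩ := Ideal.Quotient.mk_surjective v
    exact mem_algebraicClosure_iff.1 (K₁.div_mem (by rw [Ideal.algebraMap_quotient_residueField_mk]; exact hF u)
      (by rw [Ideal.algebraMap_quotient_residueField_mk]; exact hF v))⟩
  let w : Option (Fin d) → L := fun o => o.elim (ρ a) (fun j => ρ (y j))
  haveI : Algebra.IsAlgebraic (IntermediateField.adjoin k (Set.range w)) L := hEalg
  haveI : Algebra.IsAlgebraic (Algebra.adjoin k (Set.range w)) L :=
    Algebra.IsAlgebraic.trans (Algebra.adjoin k (Set.range w)) (IntermediateField.adjoin k (Set.range w)) L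
  have htr : Algebra.trdeg k L ≤ (d + 1 : ℕ) := by
    refine (Algebra.IsAlgebraic.trdeg_le_cardinalMk k (Set.range w)).trans ?_
    refine (Cardinal.mk_range_le_lift (f := w)).trans' (le_of_eq (Cardinal.lift_id' _).symm) |>.trans ?_
    simp
  -- independence of the transcendental elements
  let A1 := Algebra.adjoin k {β}
  have hA1 : ∀ e : L, e ∈ A1 → e ∈ Set.range (algebraMap κ L) := fun e he => by
    have hk : k ≤ (algebraMap κ L).fieldRange := by
      refine Subfield.closure_le.2 ?_
      rintro _ ⟨r, rfl⟩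
      exact ⟨algebraMap R[X] κ (C r), (hη (C r)).trans (by rw [aeval_C])⟩
    induction he using Algebra.adjoin_induction with
    | mem x hx => rw [Set.mem_singleton_iff] at hx; subst hx; exact ⟨algebraMap R[X] κ X, (hη X).trans (by rw [aeval_X])⟩
    | algebraMap c => exact RingHom.mem_fieldRange.1 (hk c.2)
    | add x y _ _ hx hy => obtain ⟨x', rfl⟩ := hx; obtain ⟨y', rfl⟩ := hy; exact ⟨x' + y', map_add _ _ _⟩
    | mul x y _ _ hx hy => obtain ⟨x', rfl⟩ := hx; obtain ⟨y', rfl⟩ := hy; exact ⟨x' * y', map_mul _ _ _⟩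
  have hzA1 : AlgebraicIndependent A1 zL := by
    choose j hj using fun e : A1 => hA1 e.1 e.2
    let jh : A1 →+* κ :=
      { toFun := j
        map_one' := (algebraMap κ L).injective (by rw [hj, map_one]; rfl)
        map_mul' := fun p q => (algebraMap κ L).injective (by rw [hj, map_mul, hj, hj]; rfl)
        map_zero' := (algebraMap κ L).injective (by rw [hj, map_zero]; rfl)
        map_add' := fun p q => (algebraMap κ L).injective (by rw [hj, map_add, hj, hj]; rfl) }
    have hcomp : (algebraMap κ L).comp jh = algebraMap A1 L := RingHom.ext hj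
    show Function.Injective (MvPolynomial.aeval zL)
    have hjinj : Function.Injective jh := fun p q e => Subtype.ext (by rw [← hj p, ← hj q]; exact congrArg _ e)
    have : ∀ f : MvPolynomial (Fin s) A1, MvPolynomial.aeval zL f = MvPolynomial.aeval zL (MvPolynomial.map jh f) := fun f => by
      rw [MvPolynomial.aeval_def, MvPolynomial.aeval_def, MvPolynomial.eval₂_map, hcomp]
    intro p q e
    rw [this, this] at e
    exact MvPolynomial.map_injective jh hjinj (hzL e)
  have hzk : AlgebraicIndependent k zL := hzA1.restrictScalars (FaithfulSMul.algebraMap_injective k A1)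
  have hle : ∀ {ι : Type} [Fintype ι] {v : ι → L}, AlgebraicIndependent k v → Fintype.card ι ≤ d + 1 := by
    intro ι _ v hv
    have := hv.lift_cardinalMk_le_trdeg.trans (Cardinal.lift_le.2 htr)
    simp only [Cardinal.mk_fintype, Cardinal.lift_natCast] at this
    exact_mod_cast this
  have hbase : AlgebraicIndependent k w := by
    refine (Algebra.IsAlgebraic.isTranscendenceBasis_of_lift_le_trdeg_of_finite k w ?_).1
    have h1 := hzk.lift_cardinalMk_le_trdeg
    refine le_trans ?_ h1
    simp only [Cardinal.mk_fintype, Fintype.card_fin, Fintype.card_option, Cardinal.lift_natCast, Nat.cast_le]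
    exact hs
  have hβalg : IsAlgebraic k β := by
    by_contra hβ
    have hone : AlgebraicIndependent k (fun _ : Unit => β) := algebraicIndependent_unique_type_iff.2 hβ
    have hall : AlgebraicIndependent k (Sum.elim zL (fun _ : Unit => β)) := by
      refine AlgebraicIndependent.sumElim_iff.2 ⟨hone, ?_⟩
      rw [Set.range_const]
      exact hzA1
    have := hle hall
    simp at this
    omega
  -- the valuation
  obtain ⟨O, hOk, hOy, hOa⟩ := exists_valuationSubring (ρ a) (fun j => ρ (y j)) hbase
  have hmap : ∀ c : R[X], ρ (aeval a c) = aeval (ρ a) (c.map toK) := fun c => by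
    rw [aeval_def, Polynomial.hom_eval₂, aeval_def, Polynomial.eval₂_map]
    rfl
  have hlo : ∀ e : R[X], e.natDegree ≤ M → O.valuation (ρ (aeval a e)) ≤ O.valuation (ρ a) ^ M := fun e he => by
    rw [hmap, aeval_eq_sum_range' (n := M + 1) (by have := natDegree_map_le (f := toK) (p := e); omega)]
    refine O.valuation.map_sum_le fun i hi => ?_
    rw [Algebra.smul_def, map_mul, map_pow]
    exact (mul_le_of_le_one_left' ((O.valuation_le_one_iff _).2 (hOk _))).trans
      (pow_le_pow_right₀ hOa.le (by simp at hi; omega))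
  have hx : ∀ i, O.valuation (ρ (φ (MvPolynomial.X i))) ≤ O.valuation (ρ a) ^ M := fun i => by
    refine valuation_le_of_relation O hOa M (Nr i) _ ?_ (fun j => ?_) (hrelL i)
    · rw [hmap]
      refine (one_le_valuation_aeval O hOk hOa _ fun h => hcr i ?_).1
      exact RingHom.mem_ker.2 (by rw [hmap, h, map_zero])
    · rw [MvPolynomial.eval₂_eq, map_sum]
      refine O.valuation.map_sum_le fun v _ => ?_
      rw [map_mul, map_mul]
      refine (mul_le_of_le_one_right' ((O.valuation_le_one_iff _).2 ?_)).trans (hlo _ (hgr i j v))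
      rw [map_prod]
      exact prod_mem fun e _ => by rw [map_pow]; exact pow_mem (hOy e) _
  refine false_of_integral (L := L) O hOa hn (hD L O ρ (ρ a) hOa (fun r => hOk (toK r)) hx) ?_ (β := β) (by simp [β])
  obtain ⟨p, hp, hp0⟩ := hβalg.isIntegral
  refine (O.valuation_le_one_iff _).1 ?_
  let kO : k →+* O.valuation.integer :=
    (algebraMap k L).codRestrict O.valuation.integer fun c => (O.valuation_le_one_iff _).2 (hOk c)
  exact (Valuation.integer.integers O.valuation).mem_of_integral ⟨p.map kO, hp.map _, by rw [Polynomial.eval₂_map]; exact hp0⟩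

open GrothLib.RelNoether10 in
/-- The statement. -/
theorem exists_bound_n {R S : Type u} [CommRing R] [CommRing S] [Algebra R S] [Algebra.FiniteType R S]
    (d : ℕ) (a b : S)
    (ha : ∀ P : PrimeSpectrum R[X], letI := (aeval (R := R) a).toRingHom.toAlgebra
      ringKrullDim (P.asIdeal.Fiber S) ≤ d) :
    ∃ n₀ : ℕ, ∀ n ≥ n₀, ∀ P : PrimeSpectrum R[X], letI := (aeval (R := R) (a ^ n + b)).toRingHom.toAlgebra
      ringKrullDim (P.asIdeal.Fiber S) ≤ d := by
  classical
  obtain ⟨m, φ, hφ⟩ := Algebra.FiniteType.iff_quotient_mvPolynomial''.1 (inferInstance : Algebra.FiniteType R S)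
  have key : ∃ (y : Fin d → S) (M : ℕ), ∀ (q : PrimeSpectrum S) (i : Fin m),
      ∃ (N : ℕ) (c : R[X]) (g : Fin N → MvPolynomial (Fin d) R[X]),
      aeval a c ∉ q.asIdeal ∧ (∀ j v, ((g j).coeff v).natDegree ≤ M) ∧
      aeval a c * φ (MvPolynomial.X i) ^ N +
        ∑ j, MvPolynomial.eval₂ (aeval (R := R) a).toRingHom y (g j) * φ (MvPolynomial.X i) ^ (j : ℕ) ∈ q.asIdeal := by
    letI := (aeval (R := R) a).toRingHom.toAlgebra
    haveI : IsScalarTower R R[X] S := IsScalarTower.of_algebraMap_eq fun r => ((aeval (R := R) a).commutes r).symm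
    haveI : Algebra.FiniteType R[X] S := Algebra.FiniteType.of_restrictScalars_finiteType R _ _
    let φ' : MvPolynomial (Fin m) R[X] →ₐ[R[X]] S := MvPolynomial.aeval fun i => φ (MvPolynomial.X i)
    have hφ' : Function.Surjective φ' := fun s => by
      obtain ⟨f, rfl⟩ := hφ s
      refine ⟨MvPolynomial.map C f, ?_⟩
      rw [MvPolynomial.aeval_def, MvPolynomial.eval₂_map]
      conv_rhs => rw [show φ f = MvPolynomial.aeval (fun i => φ (MvPolynomial.X i)) f from
        congrArg (fun e => e f) (MvPolynomial.aeval_unique φ)]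
      rw [MvPolynomial.aeval_def]
      congr 1
      exact RingHom.ext fun r => (IsScalarTower.algebraMap_apply R R[X] S r).symm
    have hint : ∀ p, (fib φ' p).toRingHom.IsIntegral := fun p => RingHom.isIntegral_of_surjective _ fun z => by
      induction z using TensorProduct.induction_on with
      | zero => exact ⟨0, map_zero _⟩
      | tmul c s =>
        obtain ⟨f, rfl⟩ := hφ' s
        refine ⟨MvPolynomial.C c * MvPolynomial.map (algebraMap R[X] _) f, ?_⟩
        show fib φ' p _ = _
        rw [map_mul, fib_map, ← MvPolynomial.algebraMap_eq, AlgHom.commutes, Algebra.TensorProduct.algebraMap_apply]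
        simp
      | add a b ha hb =>
        obtain ⟨x, hx⟩ := ha
        obtain ⟨y, hy⟩ := hb
        exact ⟨x + y, by rw [map_add, hx, hy]⟩
    obtain ⟨ψ, hψ⟩ := exists_fibrewise_integral d ha m φ' hint
    choose M hM using fun i => exists_uniform_relations ψ hψ (φ (MvPolynomial.X i))
    refine ⟨fun j => ψ (MvPolynomial.X j), Finset.univ.sup M, fun q i => ?_⟩
    obtain ⟨N, c, g, hc, hg, hr⟩ := hM i q
    refine ⟨N, c, g, hc, fun j v => (hg j v).trans (Finset.le_sup (Finset.mem_univ i)), ?_⟩
    have he : ∀ f, MvPolynomial.eval₂ (aeval (R := R) a).toRingHom (fun j => ψ (MvPolynomial.X j)) f = ψ f := fun f => by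
      conv_rhs => rw [show ψ f = MvPolynomial.aeval (fun i => ψ (MvPolynomial.X i)) f from
        congrArg (fun e => e f) (MvPolynomial.aeval_unique ψ)]
      rfl
    simp only [he]
    exact hr
  obtain ⟨y, M, hM⟩ := key
  obtain ⟨P0, hP0⟩ := hφ b
  obtain ⟨D, hD⟩ := exists_bound (R := R) M φ.toRingHom P0
  refine ⟨D + 1, fun n hn P => not_not.1 fun h => false_of_bad a b (n := n) (M := M) (D := D) (by omega) φ hφ y ?_ hM P h⟩
  intro K _ O ρ a' ha' hC hX
  rw [← hP0]
  exact hD K O ρ a' ha' (fun r => by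
    show ρ (φ (MvPolynomial.C r)) ∈ O
    rw [← MvPolynomial.algebraMap_eq, AlgHom.commutes]
    exact hC r) hX

end GrothLib.PowPert6
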