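import Mathlib

/-!
# Bounding a valuation by relations of bounded degree
-/

set_option autoImplicit false

open Polynomial

universe u

namespace GrothLib.PowPert6

variable {k L : Type u} [Field k] [Field L] [Algebra k L]

/-- A valuation ring with an element of negative valuation containing given independent elements. -/
theorem exists_valuationSubring {d : ℕ} (a : L) (y : Fin d → L)
    (h : AlgebraicIndependent k (fun o : Option (Fin d) => o.elim a y)) :
    ∃ O : ValuationSubring L, (∀ c : k, algebraMap k L c ∈ O) ∧ (∀ j, y j ∈ O) ∧ 1 < O.valuation a := by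
  have hy : AlgebraicIndependent k y := h.comp some (Option.some_injective _)
  have htr : Transcendental (Algebra.adjoin k (Set.range y)) a := (hy.option_iff_transcendental a).1 h
  let R₁ := Algebra.adjoin k (Set.range y)
  let B := (Algebra.adjoin R₁ {a⁻¹}).toSubring
  have hu : a⁻¹ ∈ B := Algebra.subset_adjoin rfl
  have htop : Ideal.span {(⟨a⁻¹, hu⟩ : B)} ≠ ⊤ := by
    intro htop
    obtain ⟨⟨r, hr⟩, hr1⟩ := Ideal.mem_span_singleton'.1 ((Ideal.eq_top_iff_one _).1 htop)
    have hr' : r ∈ Algebra.adjoin R₁ {a⁻¹} := hr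
    rw [Algebra.adjoin_singleton_eq_range_aeval] at hr'
    obtain ⟨P, hP⟩ := hr'
    have hP' : aeval a⁻¹ P = r := hP
    have h1 : r * a⁻¹ = 1 := congrArg Subtype.val hr1
    refine htr (IsAlgebraic.inv_iff.1 ⟨P * X - 1, fun he => ?_, ?_⟩)
    · have := congrArg (fun p => p.eval 0) he
      simp at this
    · rw [map_sub, map_mul, aeval_X, map_one, hP', h1, sub_self]
  obtain ⟨O, hO, hI⟩ := Ideal.image_subset_nonunits_valuationSubring _ htop
  have hR₁ : ∀ r : L, r ∈ R₁ → r ∈ O := fun r hr => hO ((Algebra.adjoin R₁ {a⁻¹}).algebraMap_mem ⟨r, hr⟩)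
  refine ⟨O, fun c => hR₁ _ (R₁.algebraMap_mem c), fun j => hR₁ _ (Algebra.subset_adjoin ⟨j, rfl⟩), ?_⟩
  have hlt : O.valuation a⁻¹ < 1 :=
    (ValuationSubring.mem_nonunits_iff O).1 (hI ⟨⟨a⁻¹, hu⟩, Ideal.mem_span_singleton_self _, rfl⟩)
  have ha : a ≠ 0 := fun h0 => htr (h0 ▸ isAlgebraic_zero)
  rw [map_inv₀] at hlt
  exact (inv_lt_one₀ (zero_lt_iff.2 ((map_ne_zero O.valuation).2 ha))).1 hlt

variable (O : ValuationSubring L)

theorem valuation_const (hk : ∀ c : k, algebraMap k L c ∈ O) {c : k} (hc : c ≠ 0) :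
    O.valuation (algebraMap k L c) = 1 := by
  refine le_antisymm ((O.valuation_le_one_iff _).2 (hk c)) ?_
  have h := (O.valuation_le_one_iff _).2 (hk c⁻¹)
  rw [map_inv₀ (algebraMap k L), map_inv₀] at h
  exact (inv_le_one₀ (zero_lt_iff.2 ((map_ne_zero O.valuation).2 ((map_ne_zero (algebraMap k L)).2 hc)))).1 h

/-- A nonzero polynomial in an element of negative valuation is not small. -/
theorem one_le_valuation_aeval (hk : ∀ c : k, algebraMap k L c ∈ O) {a : L} (ha : 1 < O.valuation a) (c : k[X]) :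
    c ≠ 0 → 1 ≤ O.valuation (aeval a c) ∧ (c.coeff 0 = 0 → 1 < O.valuation (aeval a c)) := by
  induction c using Polynomial.recOnHorner with
  | M0 => exact fun h => (h rfl).elim
  | MC p e hp0 he ih =>
    intro _
    have hcoef : (p + C e).coeff 0 ≠ 0 := by simpa [hp0] using he
    refine ⟨?_, fun h => (hcoef h).elim⟩
    rw [map_add, aeval_C]
    rcases eq_or_ne p 0 with rfl | hp
    · rw [map_zero, zero_add, valuation_const O hk he]
    · have h2 := (ih hp).2 hp0
      rw [O.valuation.map_add_eq_of_lt_left (by rwa [valuation_const O hk he])]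
      exact h2.le
  | MX p hp ih =>
    intro _
    have h : 1 < O.valuation (aeval a (p * X)) := by
      rw [map_mul, aeval_X, map_mul]
      exact lt_of_lt_of_le ha (le_mul_of_one_le_left' (ih hp).1)
    exact ⟨h.le, fun _ => h⟩

/-- A relation with a polynomial leading coefficient and bounded lower coefficients bounds the root. -/
theorem valuation_le_of_relation {a x lc : L} (ha : 1 < O.valuation a) (M N : ℕ) (co : Fin N → L)
    (hlc : 1 ≤ O.valuation lc) (hco : ∀ j, O.valuation (co j) ≤ O.valuation a ^ M)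
    (hrel : lc * x ^ N + ∑ j, co j * x ^ (j : ℕ) = 0) :
    O.valuation x ≤ O.valuation a ^ M := by
  by_contra hx
  rw [not_le] at hx
  have hV : 1 ≤ O.valuation a ^ M := one_le_pow₀ ha.le
  have h1x : 1 ≤ O.valuation x := hV.trans hx.le
  have hpos : 0 < O.valuation x ^ N := pow_pos (lt_of_lt_of_le zero_lt_one h1x) N
  have hlt : O.valuation (∑ j, co j * x ^ (j : ℕ)) < O.valuation x ^ N := by
    refine O.valuation.map_sum_lt hpos.ne' fun j _ => ?_
    rw [map_mul, map_pow]
    calc O.valuation (co j) * O.valuation x ^ (j : ℕ) ≤ O.valuation a ^ M * O.valuation x ^ (j : ℕ) :=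
          mul_le_mul' (hco j) le_rfl
      _ < O.valuation x * O.valuation x ^ (j : ℕ) :=
          mul_lt_mul_of_pos_right hx (pow_pos (lt_of_lt_of_le zero_lt_one h1x) _)
      _ = O.valuation x ^ ((j : ℕ) + 1) := (pow_succ' _ _).symm
      _ ≤ O.valuation x ^ N := pow_le_pow_right₀ h1x j.2
  have he : O.valuation (∑ j, co j * x ^ (j : ℕ)) = O.valuation (lc * x ^ N) := by
    rw [eq_neg_of_add_eq_zero_right hrel, Valuation.map_neg]
  rw [he, map_mul, map_pow] at hlt
  exact absurd hlt (not_lt.2 (le_mul_of_one_le_left' hlc))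

/-- A polynomial in bounded elements is bounded, uniformly in the valuation. -/
theorem exists_bound {R S : Type u} [CommRing R] [CommRing S] {σ : Type} (M : ℕ) (e : MvPolynomial σ R →+* S)
    (P : MvPolynomial σ R) :
    ∃ D : ℕ, ∀ (K : Type u) [Field K] (O : ValuationSubring K) (ρ : S →+* K) (a : K), 1 < O.valuation a →
      (∀ r, ρ (e (MvPolynomial.C r)) ∈ O) → (∀ i, O.valuation (ρ (e (MvPolynomial.X i))) ≤ O.valuation a ^ M) →
      O.valuation (ρ (e P)) ≤ O.valuation a ^ D := by
  induction P using MvPolynomial.induction_on with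
  | C r => exact ⟨0, fun K _ O ρ a _ hC _ => by rw [pow_zero]; exact (O.valuation_le_one_iff _).2 (hC r)⟩
  | add p q hp hq =>
    obtain ⟨D, hD⟩ := hp
    obtain ⟨D', hD'⟩ := hq
    refine ⟨max D D', fun K _ O ρ a ha hC hX => ?_⟩
    rw [map_add, map_add]
    exact O.valuation.map_add_le ((hD K O ρ a ha hC hX).trans (pow_le_pow_right₀ ha.le (le_max_left _ _)))
      ((hD' K O ρ a ha hC hX).trans (pow_le_pow_right₀ ha.le (le_max_right _ _)))
  | mul_X p i hp =>
    obtain ⟨D, hD⟩ := hp
    refine ⟨D + M, fun K _ O ρ a ha hC hX => ?_⟩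
    rw [map_mul, map_mul, map_mul, pow_add]
    exact mul_le_mul' (hD K O ρ a ha hC hX) (hX i)

/-- The element `a ^ n + b` is not integral over the constants for large `n`. -/
theorem false_of_integral {a b β : L} (ha : 1 < O.valuation a) {D n : ℕ} (hn : D < n)
    (hb : O.valuation b ≤ O.valuation a ^ D) (hβ : β ∈ O) (h : a ^ n + b = β) : False := by
  have h1 : O.valuation (a ^ n) ≤ O.valuation a ^ D := by
    rw [show a ^ n = β - b by rw [← h]; ring]
    refine (Valuation.map_sub _ _ _).trans (max_le ?_ hb)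
    exact ((O.valuation_le_one_iff _).2 hβ).trans (one_le_pow₀ ha.le)
  rw [map_pow] at h1
  exact absurd h1 (not_le.2 (pow_lt_pow_right₀ ha hn))

end GrothLib.PowPert6
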